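import Groth.Agent.Lib.Curve17.FunctionField
import Groth.Agent.Lib.SmoothReg17.Basic
import Groth.Prelude.Def_CurvBase

/-!
# Automorphisms of the function field are automorphisms of the curve
-/

set_option linter.style.haveILetI false
set_option autoImplicit false
set_option maxHeartbeats 800000

universe u

open CategoryTheory CategoryTheory.Limits AlgebraicGeometry TopologicalSpace

noncomputable section

namespace Groth.Agent.GenusOneAut17

attribute [local instance] Curv2.stalkAlgebra

variable {k : Type u} [Field k] {E : Scheme.{u}} [E.Over (Spec (CommRingCat.of k))] [IsIntegral E]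
  [IsProper (E ↘ Spec (CommRingCat.of k))]

/-- An automorphism of the function field of a normal proper curve comes from one of the curve. -/
theorem exists_iso_of_algEquiv (hdim : topologicalKrullDim E = 1) (hN : Pi1.IsNormalScheme E)
    (θ : E.functionField ≃ₐ[k] E.functionField) :
    ∃ (i : E ≅ E) (e : i.hom (genericPoint E) = genericPoint E),
      i.hom ≫ (E ↘ Spec (CommRingCat.of k)) = E ↘ Spec (CommRingCat.of k) ∧
        ∀ z, Curve17.genMap i.hom e z = θ z := by
  obtain ⟨h, e, hh, hg⟩ := Curve17.exists_hom_of_functionField (E ↘ Spec (CommRingCat.of k))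
    (E ↘ Spec (CommRingCat.of k))
    (Curve17.valuationRing_stalk_of_normal (E ↘ Spec (CommRingCat.of k)) hdim fun y => (hN y).2)
    (CommRingCat.ofHom θ.toRingEquiv.toRingHom) (by
      ext c
      exact θ.commutes c)
  haveI hiso : IsIso (Curve17.genMap h e) := by
    refine (ConcreteCategory.isIso_iff_bijective _).2 ?_
    rw [hg]
    exact θ.bijective
  haveI : IsIso (h.stalkMap (genericPoint E)) := by
    haveI : IsIso (E.presheaf.stalkSpecializes (specializes_of_eq e)) :=
      ⟨E.presheaf.stalkSpecializes (specializes_of_eq e.symm), by simp, by simp⟩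
    haveI : IsIso (E.presheaf.stalkSpecializes (specializes_of_eq e) ≫ h.stalkMap (genericPoint E)) := hiso
    exact IsIso.of_isIso_comp_left (E.presheaf.stalkSpecializes (specializes_of_eq e)) _
  haveI : IsIso h := Groth.Agent.S7830.result k (E ↘ Spec (CommRingCat.of k)) _ hdim hdim hN h hh e inferInstance
  exact ⟨asIso h, e, hh, fun z => ConcreteCategory.congr_hom hg z⟩

/-- Equal morphisms have equal maps of function fields. -/
theorem genMap_congr {f g : E ⟶ E} (h : f = g) (ef : f (genericPoint E) = genericPoint E)
    (eg : g (genericPoint E) = genericPoint E) : Curve17.genMap f ef = Curve17.genMap g eg := by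
  subst h
  rfl

end Groth.Agent.GenusOneAut17
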