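import Groth.Agent.Lib.GenusOneAut17.DoubleCover
import Groth.Agent.Lib.GenusOneAut17.Bridge
import Groth.Agent.Lib.FunField.Weights

/-!
# Automorphisms carrying one degree two subfield to another
-/

set_option autoImplicit false
set_option linter.style.haveILetI false
set_option maxHeartbeats 800000

namespace Groth.Agent.GenusOneAut17

open FunFld IntermediateField Groth.Agent.FunField Groth.Agent.Wronskian26

variable {k K : Type*} [Field k] [IsAlgClosed k] [Field K] [Algebra k K]

/-- A function with only a double pole at the pole of another one lies in its field. -/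
theorem mem_adjoin_of_poleDiv (hK : IsFunctionField k K) (hg : genus k K = 1) {R : Place k K} {y z : K}
    (hy : poleDiv (k := k) y = Finsupp.single R 2) (hz : poleDiv (k := k) z = Finsupp.single R 2) :
    z ∈ k⟮y⟯ := by
  classical
  have h := ff hK
  haveI := finiteDimensional_L h (Finsupp.single R (2 : ℤ))
  have hmem : ∀ {w : K}, poleDiv (k := k) w = Finsupp.single R 2 → w ∈ FunFld.L (Finsupp.single R (2 : ℤ)) := by
    intro w hw
    rcases eq_or_ne w 0 with rfl | hw0
    · exact zero_mem _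
    refine (mem_L_iff_ord hw0).2 fun S => ?_
    have h1 := DFunLike.congr_fun hw S
    rw [poleDiv_apply h] at h1
    omega
  have h1 : (1 : K) ∈ FunFld.L (Finsupp.single R (2 : ℤ)) := (mem_L_iff_ord one_ne_zero).2 fun S => by
    rw [ord_one]
    have : (0 : ℤ) ≤ (Finsupp.single R (2 : ℤ) : Divisor k K) S :=
      (Finsupp.single_nonneg.2 (by norm_num) : (0 : Divisor k K) ≤ _) S
    omega
  have hyR : R.ord y = -2 := by
    have h2 := DFunLike.congr_fun hy R
    rw [poleDiv_apply h, Finsupp.single_eq_same] at h2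
    omega
  have hli : LinearIndependent k ![(⟨1, h1⟩ : FunFld.L (Finsupp.single R (2 : ℤ))), ⟨y, hmem hy⟩] := by
    rw [linearIndependent_fin2]
    refine ⟨fun e => ?_, fun a e => ?_⟩
    · have := congrArg Subtype.val e
      simp at this
      rw [this, ord_zero] at hyR
      omega
    · have := congrArg Subtype.val e
      simp [Algebra.smul_def] at this
      have hxt : Transcendental k y := transcendental_of_pole R (by omega)
      have ha : a ≠ 0 := fun h0 => by simp [h0] at this
      refine hxt ?_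
      rw [show y = algebraMap k K a⁻¹ by rw [map_inv₀]; exact eq_inv_of_mul_eq_one_right this]
      exact isAlgebraic_algebraMap _
  have hr := ell_g1_single hK hg (deg_eq_one h R) (n := 2) (by norm_num)
  have hcard : Fintype.card (Fin 2) = Module.finrank k (FunFld.L (Finsupp.single R (2 : ℤ))) := by
    rw [Fintype.card_fin]
    unfold ell at hr
    omega
  have hspan := hli.span_eq_top_of_card_eq_finrank hcard
  obtain ⟨c, hc⟩ := (Submodule.mem_span_range_iff_exists_fun k).1 (hspan.ge (Submodule.mem_top (x := ⟨z, hmem hz⟩)))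
  have hz' := congrArg Subtype.val hc
  simp [Fin.sum_univ_two, Algebra.smul_def] at hz'
  rw [← hz']
  exact add_mem (IntermediateField.algebraMap_mem _ _)
    (mul_mem (IntermediateField.algebraMap_mem _ _) (mem_adjoin_simple_self k y))

/-- An involution carrying one degree two subfield into the other and back. -/
theorem exists_swap (hK : IsFunctionField k K) (hg : genus k K = 1) (hchar : (2 : k) ≠ 0) {x₁ x₂ : K}
    (h₁ : Transcendental k x₁) (h₂ : Transcendental k x₂) (d₁ : Module.finrank k⟮x₁⟯ K = 2)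
    (d₂ : Module.finrank k⟮x₂⟯ K = 2) :
    ∃ θ : K ≃ₐ[k] K, (∀ z, θ (θ z) = z) ∧ (∀ z ∈ k⟮x₁⟯, θ z ∈ k⟮x₂⟯) ∧ (∀ z ∈ k⟮x₂⟯, θ z ∈ k⟮x₁⟯) := by
  classical
  have h := ff hK
  obtain ⟨R₁, y₁, hy₁, e₁⟩ := exists_double_pole hK hg hchar h₁ d₁
  obtain ⟨R₂, y₂, hy₂, e₂⟩ := exists_double_pole hK hg hchar h₂ d₂
  obtain ⟨θ, hinv, h12, h21⟩ : ∃ θ : K ≃ₐ[k] K, (∀ z, θ (θ z) = z) ∧ comapPlace θ R₁ = R₂ ∧ comapPlace θ R₂ = R₁ := by
    by_cases hR : R₁ = R₂
    · subst hR
      exact ⟨AlgEquiv.refl, fun z => rfl, place_ext fun z => Iff.rfl, place_ext fun z => Iff.rfl⟩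
    · obtain ⟨x, hx⟩ := exists_poleDiv_pair hK hg (deg_eq_one h R₁) (deg_eq_one h R₂) hR
      obtain ⟨σ, -, hσ, h1, h2⟩ := exists_involution hK (deg_eq_one h R₁) (deg_eq_one h R₂) hR hx
      exact ⟨σ, fun z => DFunLike.congr_fun hσ z, h1, h2⟩
  have key : ∀ {R R' : Place k K} {y y' : K}, comapPlace θ R = R' → comapPlace θ R' = R →
      poleDiv (k := k) y = Finsupp.single R 2 → poleDiv (k := k) y' = Finsupp.single R' 2 →
      ∀ z ∈ k⟮y⟯, θ z ∈ k⟮y'⟯ := by
    intro R R' y y' hRR' hR'R hy hy' z hz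
    have hθy : poleDiv (k := k) (θ y) = Finsupp.single R' 2 := Finsupp.ext fun S => by
      rw [poleDiv_apply h, ← ord_comapPlace, ← poleDiv_apply h, hy]
      rcases eq_or_ne S R' with rfl | hS
      · rw [hR'R, Finsupp.single_eq_same, Finsupp.single_eq_same]
      · rw [Finsupp.single_eq_of_ne hS, Finsupp.single_eq_of_ne fun e => hS ?_]
        exact comapPlace_injective θ (e.trans hR'R.symm)
    have hle : (k⟮y⟯).map (θ : K →ₐ[k] K) ≤ k⟮y'⟯ := by
      rw [IntermediateField.adjoin_map, Set.image_singleton, adjoin_simple_le_iff]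
      exact mem_adjoin_of_poleDiv hK hg hy' hθy
    exact hle ⟨z, hz, rfl⟩
  rw [← e₁, ← e₂]
  exact ⟨θ, hinv, key h12 h21 hy₁ hy₂, key h21 h12 hy₂ hy₁⟩

end Groth.Agent.GenusOneAut17
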