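import Groth.Agent.Lib.GenusOneAut17.Ramified
import Groth.Agent.Lib.Curve17.FrobTwist
import Groth.Agent.Lib.LurothCurve17
import Groth.Agent.Lib.AmpleFin18.PushEuler
import Groth.Agent.Lib.CurveCoh17.Bases
import Groth.Agent.Lib.CurveOm17.P1
import Groth.Agent.S10829

/-!
# The function field of a double cover of the line
-/

set_option linter.style.haveILetI false
set_option autoImplicit false
set_option maxHeartbeats 800000

universe u

open CategoryTheory CategoryTheory.Limits AlgebraicGeometry TopologicalSpace

noncomputable section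

namespace Groth.Agent.GenusOneAut17

open Curve17 FunFld Groth.Agent.FunField Groth.Agent.Wronskian26

variable {k : Type u} [Field k] {X : Scheme.{u}} [X.Over (Spec (CommRingCat.of k))] [IsIntegral X]
  [IsProper (X ↘ Spec (CommRingCat.of k))]

/-- A map of rank two to the line is given by a degree two subfield generated by one element. -/
theorem exists_coord [IsIntegral (CohB1.ProjSpace 1 k)] (hdim : topologicalKrullDim X = 1)
    (f : X ⟶ CohB1.ProjSpace 1 k) [IsFinite f]
    (hf : f ≫ CohB1.ProjSpace.toSpec 1 k = X ↘ Spec (CommRingCat.of k))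
    (hd : FlatMod.IsFinLocFreeOfRank 2 ((Scheme.Modules.pushforward f).obj (Coh.structureModule X))) :
    letI := funAlg (X ↘ Spec (CommRingCat.of k))
    letI := funAlg (CohB1.ProjSpace.toSpec 1 k)
    ∃ (e : f (genericPoint X) = genericPoint (CohB1.ProjSpace 1 k))
      (G : (CohB1.ProjSpace 1 k).functionField →ₐ[k] X.functionField) (x : X.functionField),
      (∀ z, G z = Curve17.genMap f e z) ∧ IntermediateField.adjoin k {x} = G.fieldRange ∧
      Transcendental k x ∧ Module.finrank (IntermediateField.adjoin k ({x} : Set X.functionField)) X.functionField = 2 := by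
  classical
  letI := funAlg (X ↘ Spec (CommRingCat.of k))
  letI := funAlg (CohB1.ProjSpace.toSpec 1 k)
  haveI : IsProper (CohB1.ProjSpace.toSpec 1 k) := ProjSpace.isProper_toSpec 1 k
  have hdimY : topologicalKrullDim (CohB1.ProjSpace 1 k) = 1 := by rw [Groth.Agent.S10829.result k 1]; rfl
  have e : f (genericPoint X) = genericPoint (CohB1.ProjSpace 1 k) := by
    by_contra hne
    haveI : JacobsonSpace X := LocallyOfFiniteType.jacobsonSpace (X ↘ Spec (CommRingCat.of k))
    have hcl : IsClosed ({f (genericPoint X)} : Set (CohB1.ProjSpace 1 k)) :=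
      Curve17.isClosed_singleton hdimY.le hne
    have huniv : f ⁻¹' {f (genericPoint X)} = Set.univ :=
      Set.eq_univ_of_forall fun y => ((genericPoint_specializes y).map f.continuous).mem_closed hcl rfl
    haveI : Finite X := Set.finite_univ_iff.1 (huniv ▸ f.finite_preimage_singleton _)
    have h0 := topologicalKrullDim_zero_of_discreteTopology X
    rw [hdim] at h0
    exact absurd h0 (by norm_num)
  let g : (CohB1.ProjSpace 1 k).functionField →+* X.functionField := (Curve17.genMap f e).hom
  have hbase := congrArg CommRingCat.Hom.hom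
    (Curve17.genMap_baseStalk (X ↘ Spec (CommRingCat.of k)) (CohB1.ProjSpace.toSpec 1 k) f hf e)
  let G : (CohB1.ProjSpace 1 k).functionField →ₐ[k] X.functionField :=
    { g with commutes' := RingHom.congr_fun hbase }
  obtain ⟨er, her⟩ := LurothCurve17.exists_ratFunc_equiv (k := k)
  let E : RatFunc k ≃ₐ[k] (CohB1.ProjSpace 1 k).functionField :=
    AlgEquiv.ofRingEquiv (f := er) fun c => by rw [RatFunc.algebraMap_eq_C]; exact her c
  let P : RatFunc k →ₐ[k] X.functionField := G.comp E.toAlgHom
  have hrange : IntermediateField.adjoin k ({P RatFunc.X} : Set X.functionField) = G.fieldRange := by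
    rw [← Set.image_singleton, ← IntermediateField.adjoin_map, RatFunc.adjoin_X]
    refine SetLike.ext fun w => ⟨?_, ?_⟩
    · rintro ⟨v, -, rfl⟩; exact ⟨E v, rfl⟩
    · rintro ⟨v, rfl⟩; exact ⟨E.symm v, trivial, congrArg G (E.apply_symm_apply v)⟩
  refine ⟨e, G, P RatFunc.X, fun z => rfl, hrange, ?_, ?_⟩
  · intro h
    exact RatFunc.transcendental_X ((isAlgebraic_algHom_iff P P.toRingHom.injective).1 h)
  · rw [hrange]
    obtain ⟨el⟩ := CurveCoh17.nonempty_stalk_equiv hd (genericPoint (CohB1.ProjSpace 1 k))
    have h1 := AmpleFin18.finrank_pushO_genericPoint hdim.le hdimY f e e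
    rw [el.finrank_eq, Module.finrank_fin_fun, ← CurveOm17.finrank_genMap_eq_residueDegree f e] at h1
    letI := (Curve17.genMap f e).hom.toAlgebra
    refine (Algebra.finrank_eq_of_equiv_equiv (RingEquiv.ofBijective G.rangeRestrict.toRingHom
      ⟨fun a b h => G.toRingHom.injective (congrArg Subtype.val h), AlgHom.rangeRestrict_surjective _⟩)
      (RingEquiv.refl X.functionField) (RingHom.ext fun z => rfl)).symm.trans h1.symm

end Groth.Agent.GenusOneAut17
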