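import Groth.Agent.Lib.GenusOneAut17.Invol
import Groth.Agent.Lib.FunField.LinEquiv
import Groth.Agent.Lib.FunField.Embed
import Groth.Agent.Lib.FunField.Weights
import Mathlib.FieldTheory.Fixed

/-!
# Fibres of a function of degree two
-/

set_option autoImplicit false
set_option linter.style.haveILetI false

namespace Groth.Agent.GenusOneAut17

open FunFld WithZero Polynomial IntermediateField Groth.Agent.FunField Groth.Agent.Wronskian26
open scoped Multiplicative

universe u

variable {k K : Type*} [Field k] [Field K] [Algebra k K]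

theorem ord_comapPlace (σ : K ≃ₐ[k] K) (P : Place k K) (z : K) : (comapPlace σ P).ord z = P.ord (σ z) := by
  rcases eq_or_ne z 0 with rfl | hz
  · rw [map_zero, ord_zero, ord_zero]
  · refine (ord_eq_of_val_eq _ (n := -P.ord (σ z)) ?_).trans (neg_neg _)
    rw [comapPlace_apply]
    exact val_eq_exp_neg_ord P ((map_ne_zero σ).2 hz)

theorem fix_adjoin {x : K} (σ : K ≃ₐ[k] K) (hx : σ x = x) (w : K) (hw : w ∈ k⟮x⟯) : σ w = w := by
  induction hw using IntermediateField.adjoin_induction with
  | mem y hy => rw [Set.mem_singleton_iff.1 hy]; exact hx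
  | algebraMap c => exact σ.commutes c
  | add a b _ _ ha hb => rw [map_add, ha, hb]
  | inv a _ ha => rw [map_inv₀, ha]
  | mul a b _ _ ha hb => rw [map_mul, ha, hb]

/-- The automorphism over a degree two subfield is unique. -/
theorem eq_of_fix {x : K} (hdeg : Module.finrank k⟮x⟯ K = 2) {σ σ' : K ≃ₐ[k] K} (hσ : σ x = x) (hσ' : σ' x = x)
    (h1 : σ ≠ AlgEquiv.refl) (h1' : σ' ≠ AlgEquiv.refl) : σ = σ' := by
  classical
  haveI : FiniteDimensional k⟮x⟯ K := Module.finite_of_finrank_pos (by omega)
  let lift : ∀ ρ : K ≃ₐ[k] K, ρ x = x → (K ≃ₐ[k⟮x⟯] K) := fun ρ h =>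
    { ρ.toRingEquiv with commutes' := fun w => fix_adjoin ρ h w.1 w.2 }
  by_contra hne
  let a : Fin 3 → (K ≃ₐ[k⟮x⟯] K) := ![1, lift σ hσ, lift σ' hσ']
  have hval : ∀ i z, a i z = ![z, σ z, σ' z] i := fun i z => by fin_cases i <;> rfl
  have hinj : Function.Injective a := fun i j h => by
    have hz : ∀ z, (![z, σ z, σ' z] : Fin 3 → K) i = ![z, σ z, σ' z] j := fun z => by rw [← hval, ← hval, h]
    fin_cases i <;> fin_cases j <;> first
      | rfl
      | exact absurd (AlgEquiv.ext fun z => hz z) h1
      | exact absurd (AlgEquiv.ext fun z => (hz z).symm) h1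
      | exact absurd (AlgEquiv.ext fun z => hz z) h1'
      | exact absurd (AlgEquiv.ext fun z => (hz z).symm) h1'
      | exact absurd (AlgEquiv.ext fun z => hz z) hne
      | exact absurd (AlgEquiv.ext fun z => (hz z).symm) hne
  have h3 := (Fintype.card_le_of_injective a hinj).trans (AlgEquiv.card_le (F := k⟮x⟯) (K := K))
  rw [Fintype.card_fin, hdeg] at h3
  omega

/-- A function with one double pole gives an involution. -/
theorem exists_involution_self (hK : IsFunctionField k K) (hchar : (2 : k) ≠ 0) {P : Place k K} (hPd : P.deg = 1)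
    {x : K} (hpd : poleDiv (k := k) x = Finsupp.single P 2) :
    ∃ σ : K ≃ₐ[k] K, σ ≠ AlgEquiv.refl ∧ σ x = x ∧ σ.trans σ = AlgEquiv.refl ∧ comapPlace σ P = P := by
  classical
  have h := ff hK
  have hPo : P.ord x = -2 := by
    have h1 := DFunLike.congr_fun hpd P
    rw [poleDiv_apply h, Finsupp.single_eq_same] at h1
    omega
  have hx0 : x ≠ 0 := fun e => by rw [e, ord_zero] at hPo; omega
  have hxt : Transcendental k x := transcendental_of_pole P (by omega)
  have hdeg : Module.finrank k⟮x⟯ K = 2 := by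
    have h1 := deg_poleDiv h hxt
    rw [hpd, deg_single, hPd] at h1
    norm_num at h1
    exact_mod_cast h1.symm
  haveI : FiniteDimensional k⟮x⟯ K := Module.finite_of_finrank_pos (by omega)
  haveI : Algebra.IsQuadraticExtension k⟮x⟯ K := ⟨hdeg⟩
  haveI : Algebra.IsSeparable k⟮x⟯ K := by
    by_contra hns
    rcases (IntermediateField.isSimpleOrder_of_finrank_prime k⟮x⟯ K (hdeg ▸ Nat.prime_two)).eq_bot_or_eq_top
      (separableClosure k⟮x⟯ K) with hb | ht
    · haveI := (separableClosure.eq_bot_iff.1 hb : IsPurelyInseparable k⟮x⟯ K)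
      obtain ⟨q, hq⟩ := ExpChar.exists k⟮x⟯
      obtain ⟨n, hn⟩ := IsPurelyInseparable.finrank_eq_pow k⟮x⟯ K q
      rw [hdeg] at hn
      cases hq with
      | zero => simp at hn
      | prime hp =>
        obtain rfl : q = 2 := (Nat.prime_dvd_prime_iff_eq hp Nat.prime_two).1 (by
          rcases n with _ | n
          · simp at hn
          · exact ⟨q ^ n, by rw [hn, pow_succ']⟩)
        haveI := ‹CharP k⟮x⟯ 2›
        refine hchar ((algebraMap k k⟮x⟯).injective ?_)
        rw [map_ofNat, map_zero]
        exact CharP.cast_eq_zero (R := k⟮x⟯) 2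
    · exact hns ((separableClosure.eq_top_iff _ K).1 ht)
  haveI : IsGalois k⟮x⟯ K := inferInstance
  obtain ⟨τ, hτ⟩ : ∃ τ : K ≃ₐ[k⟮x⟯] K, τ ≠ 1 := by
    by_contra! hc
    have : Subsingleton (K ≃ₐ[k⟮x⟯] K) := ⟨fun a b => (hc a).trans (hc b).symm⟩
    have h1 := IsGalois.card_aut_eq_finrank k⟮x⟯ K
    rw [Nat.card_of_subsingleton (1 : K ≃ₐ[k⟮x⟯] K), hdeg] at h1
    omega
  have hinv : τ ^ 2 = 1 := by rw [← hdeg, ← IsGalois.card_aut_eq_finrank k⟮x⟯ K]; exact pow_card_eq_one'
  let σ : K ≃ₐ[k] K := τ.restrictScalars k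
  have hx : σ x = x := τ.commutes ⟨x, IntermediateField.mem_adjoin_simple_self k x⟩
  refine ⟨σ, fun e => hτ (AlgEquiv.ext fun z => DFunLike.congr_fun e z), hx,
    AlgEquiv.ext fun z => congrArg (fun e : K ≃ₐ[k⟮x⟯] K => e z) ((pow_two τ).symm.trans hinv), ?_⟩
  by_contra hne
  have h1 := DFunLike.congr_fun hpd (comapPlace σ P)
  rw [poleDiv_apply h, Finsupp.single_eq_of_ne hne, ord_comapPlace, hx, hPo] at h1
  omega

/-- On a genus one function field a place is the double pole of a function. -/
theorem exists_poleDiv_self (hK : IsFunctionField k K) (hg : genus k K = 1) {P : Place k K} (hPd : P.deg = 1) :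
    ∃ x : K, poleDiv (k := k) x = Finsupp.single P 2 := by
  classical
  have h := ff hK
  obtain ⟨x, hx, hxn⟩ : ∃ x ∈ FunFld.L (Finsupp.single P (2 : ℤ)), x ∉ FunFld.L (Finsupp.single P (1 : ℤ)) := by
    by_contra! hc
    haveI := finiteDimensional_L h (Finsupp.single P (1 : ℤ))
    have := Submodule.finrank_mono hc
    have h2 := ell_g1_single hK hg hPd (n := 2) (by norm_num)
    have h1 := ell_g1_single hK hg hPd (n := 1) le_rfl
    unfold ell at h1 h2
    omega
  have hx0 : x ≠ 0 := fun e => hxn (e ▸ zero_mem _)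
  have h2 := (mem_L_iff_ord hx0).1 hx
  refine ⟨x, Finsupp.ext fun R => ?_⟩
  have hR := h2 R
  rw [poleDiv_apply h]
  rcases eq_or_ne R P with rfl | hRP
  · rw [Finsupp.single_eq_same] at hR ⊢
    by_contra hne
    refine hxn ((mem_L_iff_ord hx0).2 fun S => ?_)
    rcases eq_or_ne S R with rfl | hS
    · rw [Finsupp.single_eq_same]; omega
    · have := h2 S
      rw [Finsupp.single_eq_of_ne hS] at this ⊢
      exact this
  · rw [Finsupp.single_eq_of_ne hRP] at hR ⊢
    omega

/-- Every fibre of a function of degree two is an orbit of its involution. -/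
theorem le'_fibre (hK : IsFunctionField k K) [IsAlgClosed k] {P Q : Place k K} {x : K}
    (hpd : poleDiv (k := k) x = Finsupp.single P 1 + Finsupp.single Q 1) {σ : K ≃ₐ[k] K}
    (hσ1 : σ ≠ AlgEquiv.refl) (hσx : σ x = x) (hσσ : σ.trans σ = AlgEquiv.refl) (hσP : comapPlace σ P = Q)
    (R : Place k K) :
    LE' (Finsupp.single R 1 + Finsupp.single (comapPlace σ R) 1) (Finsupp.single P 1 + Finsupp.single Q 1) := by
  classical
  have h := ff hK
  have hinv : ∀ S, comapPlace σ (comapPlace σ S) = S := fun S => place_ext fun z => by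
    rw [comapPlace_apply, comapPlace_apply, show σ (σ z) = z from DFunLike.congr_fun hσσ z]
  rcases eq_or_ne R P with rfl | hRP
  · rw [hσP]; exact LE'.refl h _
  rcases eq_or_ne R Q with rfl | hRQ
  · rw [← hσP, hinv, add_comm]; exact LE'.refl h _
  have hPo : P.ord x < 0 := by
    have h1 := DFunLike.congr_fun hpd P
    rw [poleDiv_apply h, Finsupp.add_apply, Finsupp.single_eq_same] at h1
    rcases eq_or_ne P Q with rfl | hPQ
    · rw [Finsupp.single_eq_same] at h1; omega
    · rw [Finsupp.single_eq_of_ne hPQ] at h1; omega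
  have hxt : Transcendental k x := transcendental_of_pole P hPo.ne
  have hx0 : x ≠ 0 := fun e => by rw [e, ord_zero] at hPo; omega
  have hRx : R.1 x ≤ 1 := by
    rw [val_le_one_iff R hx0]
    have h1 := DFunLike.congr_fun hpd R
    rw [poleDiv_apply h, Finsupp.add_apply, Finsupp.single_eq_of_ne hRP, Finsupp.single_eq_of_ne hRQ] at h1
    omega
  obtain ⟨a, ha⟩ := exists_const_near h R hRx
  let y := x - algebraMap k K a
  have hy0 : y ≠ 0 := fun e => hxt (by rw [sub_eq_zero.1 e]; exact isAlgebraic_algebraMap a)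
  have hσy : σ y = y := by rw [map_sub, hσx, AlgEquiv.commutes]
  have hRy : 0 < R.ord y := by
    have := val_eq_exp_neg_ord R hy0
    rw [this, ← exp_zero, exp_lt_exp] at ha
    omega
  have hσRy : 0 < (comapPlace σ R).ord y := by rw [ord_comapPlace, hσy]; exact hRy
  have hpole : ∀ S : Place k K, max (-S.ord y) 0 = (Finsupp.single P 1 + Finsupp.single Q 1 : Divisor k K) S := by
    intro S
    rw [← hpd, poleDiv_apply h]
    rcases le_or_gt (S.1 x) 1 with hS | hS
    · have h1 := (val_le_one_iff S hx0).1 hS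
      have h2 := (val_le_one_iff S hy0).1 ((S.1.map_sub x _).trans (max_le hS (S.2.1 a)))
      omega
    · have h1 : S.1 y = S.1 x := Valuation.map_sub_eq_of_lt_left _ (lt_of_le_of_lt (S.2.1 a) hS)
      rw [val_eq_exp_neg_ord S hy0, val_eq_exp_neg_ord S hx0, exp_inj] at h1
      rw [h1]
  let Dz : Divisor k K := FunFld.div k y + (Finsupp.single P 1 + Finsupp.single Q 1)
  have hDz0 : ∀ S, Dz S = max (S.ord y) 0 := fun S => by
    show (FunFld.div k y + _) S = _
    rw [Finsupp.add_apply, div_apply h, ← hpole]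
    omega
  have hdz : Dz.deg = 2 := by
    show (FunFld.div k y + _).deg = _
    rw [deg_add, deg_div h, deg_add, deg_single, deg_single, deg_eq_one h P, deg_eq_one h Q]
    norm_num
  suffices hE : Finsupp.single R 1 + Finsupp.single (comapPlace σ R) 1 = Dz by
    refine LE'.symm h ⟨y, hy0, ?_⟩
    rw [hE, add_comm]
  refine eq_of_le_of_deg h (fun S => ?_) (le_of_eq (by
    rw [hdz, deg_add, deg_single, deg_single, deg_eq_one h R, deg_eq_one h (comapPlace σ R)]; norm_num))
  rw [hDz0, Finsupp.add_apply]
  by_cases hfix : comapPlace σ R = R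
  · rw [hfix]
    rcases eq_or_ne S R with rfl | hS
    · rw [Finsupp.single_eq_same]
      by_contra hlt
      have hR1 : S.ord y = 1 := by omega
      -- the other zero
      obtain ⟨T, hTS, hT⟩ : ∃ T, T ≠ S ∧ 0 < T.ord y := by
        by_contra! hc
        have : Dz = Finsupp.single S 1 := Finsupp.ext fun T => by
          rw [hDz0]
          rcases eq_or_ne T S with rfl | hT
          · rw [Finsupp.single_eq_same]; omega
          · rw [Finsupp.single_eq_of_ne hT]; have := hc T hT; omega
        rw [this, deg_single, deg_eq_one h S] at hdz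
        norm_num at hdz
      have hle : Finsupp.single S 1 + Finsupp.single T 1 ≤ Dz := fun U => by
        rw [hDz0, Finsupp.add_apply]
        rcases eq_or_ne U S with rfl | hU
        · rw [Finsupp.single_eq_same, Finsupp.single_eq_of_ne hTS.symm]; omega
        · rw [Finsupp.single_eq_of_ne hU]
          rcases eq_or_ne U T with rfl | hU'
          · rw [Finsupp.single_eq_same]; omega
          · rw [Finsupp.single_eq_of_ne hU']; omega
      have hEq := eq_of_le_of_deg h hle (le_of_eq (by
        rw [hdz, deg_add, deg_single, deg_single, deg_eq_one h S, deg_eq_one h T]; norm_num))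
      have hpd' : poleDiv (k := k) y⁻¹ = Finsupp.single S 1 + Finsupp.single T 1 := Finsupp.ext fun U => by
        rw [poleDiv_apply h, ord_inv, neg_neg, ← hDz0, hEq]
      obtain ⟨σ', hσ'y, -, hσ'S, -⟩ := exists_involution hK (deg_eq_one h S) (deg_eq_one h T) hTS.symm hpd'
      have hσ'x : σ' x = x := by
        rw [map_inv₀] at hσ'y
        have h1 := inv_injective hσ'y
        rw [map_sub, AlgEquiv.commutes] at h1
        exact sub_left_injective h1
      have hσ'1 : σ' ≠ AlgEquiv.refl := fun e => hTS (by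
        rw [e] at hσ'S
        exact hσ'S.symm.trans (place_ext fun z => Iff.rfl))
      have hd2 : Module.finrank k⟮x⟯ K = 2 := by
        have h1 := deg_poleDiv h hxt
        rw [hpd, deg_add, deg_single, deg_single, deg_eq_one h P, deg_eq_one h Q] at h1
        norm_num at h1
        exact_mod_cast h1.symm
      rw [← eq_of_fix hd2 hσx hσ'x hσ1 hσ'1] at hσ'S
      exact hTS (hσ'S.symm.trans hfix)
    · rw [Finsupp.single_eq_of_ne hS]; omega
  · rcases eq_or_ne S R with rfl | hS
    · rw [Finsupp.single_eq_same, Finsupp.single_eq_of_ne (fun e => hfix e.symm)]; omega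
    · rw [Finsupp.single_eq_of_ne hS]
      rcases eq_or_ne S (comapPlace σ R) with rfl | hS'
      · rw [Finsupp.single_eq_same]; omega
      · rw [Finsupp.single_eq_of_ne hS']; omega

end Groth.Agent.GenusOneAut17
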