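import Groth.Agent.Lib.Wronskian26.Automorph
import Mathlib.FieldTheory.Galois.Basic
import Mathlib.FieldTheory.PurelyInseparable.Basic

/-!
# Involutions of function fields from functions with two simple poles
-/

set_option autoImplicit false
set_option linter.style.haveILetI false

namespace Groth.Agent.GenusOneAut17

open FunFld WithZero Polynomial IntermediateField Groth.Agent.FunField Groth.Agent.Wronskian26
open scoped Multiplicative

universe u

variable {k K : Type*} [Field k] [Field K] [Algebra k K]

/-- At a pole of `x` the valuation of a polynomial in `x` is given by the degree. -/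
theorem val_aeval_of_pole (P : Place k K) {x : K} {n : ℤ} (hn : 0 < n) (hx : P.1 x = exp n) {p : k[X]} (hp : p ≠ 0) :
    P.1 (aeval x p) = exp (n * (p.natDegree : ℤ)) := by
  rw [Polynomial.aeval_eq_sum_range, Valuation.map_sum_eq_of_lt P.1 (j := p.natDegree)
    (Finset.mem_range.2 (Nat.lt_succ_self _))]
  · rw [Algebra.smul_def, map_mul, val_const P (by simpa using Polynomial.leadingCoeff_ne_zero.2 hp),
      one_mul, map_pow, hx, ← exp_nsmul]
    congr 1
    simp; ring
  · intro i hi
    rw [Finset.mem_sdiff, Finset.mem_range, Finset.mem_singleton] at hi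
    rw [Algebra.smul_def, map_mul, Algebra.smul_def, map_mul,
      val_const P (c := p.coeff p.natDegree) (by simpa using Polynomial.leadingCoeff_ne_zero.2 hp), one_mul,
      map_pow, map_pow, hx]
    refine lt_of_le_of_lt (mul_le_of_le_one_left' (P.2.1 _)) ?_
    rw [← exp_nsmul, ← exp_nsmul, exp_lt_exp]
    simp
    nlinarith [hi.1, hi.2, (by omega : (i : ℤ) < p.natDegree)]

/-- Two simple poles of `x` give the same valuation on `k(x)`. -/
theorem val_eq_of_mem_adjoin {P Q : Place k K} {x : K} (hP : P.1 x = exp (1 : ℤ)) (hQ : Q.1 x = exp (1 : ℤ)) {z : K}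
    (hz : z ∈ IntermediateField.adjoin k ({x} : Set K)) : P.1 z = Q.1 z := by
  obtain ⟨p, q, rfl⟩ := (IntermediateField.mem_adjoin_simple_iff (F := k) z).1 hz
  have h : ∀ r : k[X], P.1 (aeval x r) = Q.1 (aeval x r) := fun r => by
    rcases eq_or_ne r 0 with rfl | hr
    · simp
    · rw [val_aeval_of_pole P one_pos hP hr, val_aeval_of_pole Q one_pos hQ hr]
  rw [map_div₀, map_div₀, h, h]

theorem val_inj_pow {a b : ℤᵐ⁰} {N : ℕ} (hN : N ≠ 0) (h : a ^ N = b ^ N) : a = b :=
  le_antisymm ((pow_le_pow_iff_left₀ (zero_le (a := a)) (zero_le (a := b)) hN).1 h.le)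
    ((pow_le_pow_iff_left₀ (zero_le (a := b)) (zero_le (a := a)) hN).1 h.ge)

/-- A function with exactly two poles, both simple, gives an involution exchanging them. -/
theorem exists_involution (hK : IsFunctionField k K) {P Q : Place k K} (hPd : P.deg = 1) (hQd : Q.deg = 1) (hne : P ≠ Q)
    {x : K} (hpd : poleDiv (k := k) x = Finsupp.single P 1 + Finsupp.single Q 1) :
    ∃ σ : K ≃ₐ[k] K, σ x = x ∧ σ.trans σ = AlgEquiv.refl ∧ comapPlace σ P = Q ∧ comapPlace σ Q = P := by
  classical
  have h := ff hK
  have hPo : P.ord x = -1 := by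
    have h1 := DFunLike.congr_fun hpd P
    rw [poleDiv_apply h, Finsupp.add_apply, Finsupp.single_eq_same, Finsupp.single_eq_of_ne hne] at h1
    omega
  have hQo : Q.ord x = -1 := by
    have h1 := DFunLike.congr_fun hpd Q
    rw [poleDiv_apply h, Finsupp.add_apply, Finsupp.single_eq_same, Finsupp.single_eq_of_ne hne.symm] at h1
    omega
  have hx0 : x ≠ 0 := fun e => by rw [e, ord_zero] at hPo; omega
  have hPv : P.1 x = exp (1 : ℤ) := by rw [val_eq_exp_neg_ord P hx0, hPo]; norm_num
  have hQv : Q.1 x = exp (1 : ℤ) := by rw [val_eq_exp_neg_ord Q hx0, hQo]; norm_num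
  have hxt : Transcendental k x := transcendental_of_pole P (by omega)
  let F := IntermediateField.adjoin k ({x} : Set K)
  have hdeg : Module.finrank F K = 2 := by
    have h1 := deg_poleDiv h hxt
    rw [hpd, deg_add, deg_single, deg_single, hPd, hQd] at h1
    norm_num at h1
    exact_mod_cast h1.symm
  haveI : FiniteDimensional F K := Module.finite_of_finrank_pos (by omega)
  haveI : Algebra.IsQuadraticExtension F K := ⟨hdeg⟩
  haveI : Algebra.IsSeparable F K := by
    by_contra hns
    rcases (IntermediateField.isSimpleOrder_of_finrank_prime F K (hdeg ▸ Nat.prime_two)).eq_bot_or_eq_top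
      (separableClosure F K) with hb | ht
    · haveI := (separableClosure.eq_bot_iff.1 hb : IsPurelyInseparable F K)
      obtain ⟨q, hq⟩ := ExpChar.exists F
      obtain ⟨z, hzP, hzQ⟩ := exists_val_le_one_lt hne
      obtain ⟨n, w, hw⟩ := (isPurelyInseparable_iff_pow_mem F q).1 inferInstance z
      have h1 : P.1 z ^ q ^ n = Q.1 z ^ q ^ n := by
        rw [← map_pow, ← map_pow, ← hw]
        exact val_eq_of_mem_adjoin hPv hQv w.2
      exact not_lt.2 hzP ((val_inj_pow (pow_pos (expChar_pos F q) n).ne' h1) ▸ hzQ)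
    · exact hns ((separableClosure.eq_top_iff F K).1 ht)
  haveI : IsGalois F K := inferInstance
  obtain ⟨τ, hτ⟩ : ∃ τ : K ≃ₐ[F] K, τ ≠ 1 := by
    by_contra! hc
    have : Subsingleton (K ≃ₐ[F] K) := ⟨fun a b => (hc a).trans (hc b).symm⟩
    have h1 := IsGalois.card_aut_eq_finrank F K
    rw [Nat.card_of_subsingleton (1 : K ≃ₐ[F] K), hdeg] at h1
    omega
  have hinv : ∀ z, τ (τ z) = z := by
    intro z
    have h1 : τ ^ 2 = 1 := by
      rw [← hdeg, ← IsGalois.card_aut_eq_finrank F K]; exact pow_card_eq_one'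
    exact congrArg (fun e : K ≃ₐ[F] K => e z) ((pow_two τ).symm.trans h1)
  let σ : K ≃ₐ[k] K := τ.restrictScalars k
  have hx : σ x = x := τ.commutes ⟨x, IntermediateField.mem_adjoin_simple_self k x⟩
  refine ⟨σ, hx, AlgEquiv.ext hinv, ?_⟩
  -- norms lie in `k(x)`
  have hnorm : ∀ z, z * τ z ∈ F := by
    intro z
    have hfix : ∀ f : K ≃ₐ[F] K, f (z * τ z) = z * τ z := by
      intro f
      have hcard : Nat.card (K ≃ₐ[F] K) = 2 := (IsGalois.card_aut_eq_finrank F K).trans hdeg
      obtain ⟨a, b, hab, huniv⟩ := Nat.card_eq_two_iff.1 hcard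
      have hf : f = 1 ∨ f = τ := by
        have hm : ∀ g : K ≃ₐ[F] K, g = a ∨ g = b := fun g => by
          have := huniv.ge (Set.mem_univ g); simpa using this
        rcases hm f with rfl | rfl <;> rcases hm 1 with h1 | h1 <;> rcases hm τ with h2 | h2 <;>
          first
            | exact Or.inl h1.symm
            | exact Or.inr h2.symm
            | exact absurd (h2.trans h1.symm) hτ
      rcases hf with rfl | rfl
      · rfl
      · rw [map_mul, hinv, mul_comm]
    obtain ⟨w, hw⟩ := (IsGalois.mem_bot_iff_fixed (F := F) (E := K) (z * τ z)).2 hfix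
    exact hw ▸ w.2
  have htwo : ∀ R : Place k K, 1 < R.1 x → R = P ∨ R = Q := by
    intro R hR
    by_contra! hc
    have h1 := DFunLike.congr_fun hpd R
    rw [poleDiv_apply h, Finsupp.add_apply, Finsupp.single_eq_of_ne hc.1, Finsupp.single_eq_of_ne hc.2] at h1
    exact absurd ((val_le_one_iff R hx0).2 (by omega)) (not_le.2 hR)
  have hlt : ∀ R : Place k K, R.1 x = exp (1 : ℤ) → 1 < (comapPlace σ R).1 x := fun R hR => by
    rw [comapPlace_apply, hx, hR, ← exp_zero, exp_lt_exp]; norm_num
  have key : comapPlace σ P = Q := by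
    rcases htwo _ (hlt P hPv) with hP' | hP'
    · rcases htwo _ (hlt Q hQv) with hQ' | hQ'
      · exact absurd (comapPlace_injective σ (hP'.trans hQ'.symm)) hne
      exfalso
      refine hne (place_ext fun z => ?_)
      have h1 := val_eq_of_mem_adjoin hPv hQv (hnorm z)
      have h2 : P.1 z = Q.1 z := val_inj_pow two_ne_zero (by
        rw [pow_two, pow_two]
        calc P.1 z * P.1 z = P.1 z * (comapPlace σ P).1 z := by rw [hP']
          _ = P.1 (z * τ z) := (map_mul _ _ _).symm
          _ = Q.1 (z * τ z) := h1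
          _ = Q.1 z * (comapPlace σ Q).1 z := map_mul _ _ _
          _ = Q.1 z * Q.1 z := by rw [hQ'])
      rw [h2]
    · exact hP'
  refine ⟨key, ?_⟩
  have hsymm : σ.symm = σ := AlgEquiv.ext fun z => σ.injective (by rw [AlgEquiv.apply_symm_apply]; exact (hinv z).symm)
  rw [← key]
  exact (congrArg (comapPlace · (comapPlace σ P)) hsymm.symm).trans (comapPlace_symm σ P)

/-- On a genus one function field two degree one places are the poles of a function. -/
theorem exists_poleDiv_pair (hK : IsFunctionField k K) (hg : genus k K = 1) {P Q : Place k K} (hPd : P.deg = 1)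
    (hQd : Q.deg = 1) (hne : P ≠ Q) :
    ∃ x : K, poleDiv (k := k) x = Finsupp.single P 1 + Finsupp.single Q 1 := by
  classical
  have h := ff hK
  let D : Divisor k K := Finsupp.single P 1 + Finsupp.single Q 1
  have hD : D.deg = 2 := by rw [deg_add, deg_single, deg_single, hPd, hQd]; norm_num
  have hell : (ell D : ℤ) = 2 := (ell_g1 hK hg D (by omega)).trans hD
  haveI := finiteDimensional_L h D
  haveI := finiteDimensional_L h (0 : Divisor k K)
  obtain ⟨x, hxD, hx⟩ : ∃ x ∈ FunFld.L D, x ∉ FunFld.L (Finsupp.single P 1) ∧ x ∉ FunFld.L (Finsupp.single Q 1) := by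
    have h1 : ∀ {R : Place k K}, R.deg = 1 → ∀ w ∈ FunFld.L (Finsupp.single R (1 : ℤ)), w ∈ FunFld.L (0 : Divisor k K) := by
      intro R hR w hw
      haveI := finiteDimensional_L h (Finsupp.single R (1 : ℤ))
      have hle : FunFld.L (0 : Divisor k K) ≤ FunFld.L (Finsupp.single R (1 : ℤ)) := L_mono (Finsupp.single_nonneg.2 zero_le_one)
      have he := ell_g1_single hK hg hR (n := 1) le_rfl
      have h0 : 0 < Module.finrank k (FunFld.L (0 : Divisor k K)) :=
        Module.finrank_pos_iff.2 ⟨⟨⟨1, mem_L.2 fun S => by simp⟩, 0, fun e => one_ne_zero (congrArg Subtype.val e)⟩⟩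
      rw [Submodule.eq_of_le_of_finrank_le hle (by unfold ell at he; omega)]
      exact hw
    by_contra! hc
    have hle : FunFld.L D ≤ FunFld.L (Finsupp.single P (1 : ℤ)) := fun w hw => by
      by_contra hn
      exact hn (L_mono (Finsupp.single_nonneg.2 zero_le_one) (h1 hQd w (hc w hw hn)))
    haveI := finiteDimensional_L h (Finsupp.single P (1 : ℤ))
    have := Submodule.finrank_mono hle
    have he := ell_g1_single hK hg hPd (n := 1) le_rfl
    unfold ell at hell he
    omega
  have hx0 : x ≠ 0 := fun e => hx.1 (e ▸ zero_mem _)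
  have hle := (mem_L_iff_ord hx0).1 hxD
  refine ⟨x, Finsupp.ext fun R => ?_⟩
  have hR := hle R
  rw [Finsupp.add_apply] at hR
  rw [poleDiv_apply h, Finsupp.add_apply]
  have key : ∀ S T : Place k K, S ≠ T → (∀ U, 0 ≤ U.ord x + ((Finsupp.single S 1 + Finsupp.single T 1 : Divisor k K) U)) →
      x ∉ FunFld.L (Finsupp.single S (1 : ℤ)) → T.ord x < 0 := by
    intro S T hST hall hn
    by_contra! hge
    refine hn ((mem_L_iff_ord hx0).2 fun U => ?_)
    have := hall U
    rw [Finsupp.add_apply] at this
    rcases eq_or_ne U T with rfl | hU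
    · rw [Finsupp.single_eq_of_ne hST.symm]; omega
    · rw [Finsupp.single_eq_of_ne hU, add_zero] at this; exact this
  rcases eq_or_ne R P with rfl | hRP
  · have := key Q R hne.symm (fun U => by rw [add_comm (Finsupp.single Q 1)]; exact hle U) hx.2
    rw [Finsupp.single_eq_same, Finsupp.single_eq_of_ne hne] at hR ⊢
    omega
  rcases eq_or_ne R Q with rfl | hRQ
  · have := key P R hne (fun U => hle U) hx.1
    rw [Finsupp.single_eq_same, Finsupp.single_eq_of_ne hne.symm] at hR ⊢
    omega
  · rw [Finsupp.single_eq_of_ne hRP, Finsupp.single_eq_of_ne hRQ] at hR ⊢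
    omega

/-- A function field over an algebraically closed field has infinitely many places. -/
theorem infinite_place [IsAlgClosed k] (hK : IsFunctionField k K) : Infinite (Place k K) := by
  have h := ff hK
  obtain ⟨x, hx, -⟩ := h
  have ht : ∀ c : k, Transcendental k (x - algebraMap k K c) := fun c hA => hx (by
    have := hA.add (isAlgebraic_algebraMap (R := k) (A := K) c)
    rwa [sub_add_cancel] at this)
  have hz : ∀ c : k, ∃ P : Place k K, P.1 (x - algebraMap k K c) < 1 := fun c => by
    obtain ⟨P, hP⟩ := exists_zero_of_transcendental (ff hK) (ht c)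
    exact ⟨P, (val_lt_one_iff' P (ne_zero_of_transcendental (ht c))).2 hP⟩
  choose Z hZ using hz
  refine Infinite.of_injective Z fun c d hcd => ?_
  by_contra hne
  have h1 := hZ c
  have h2 := hZ d
  rw [hcd] at h1
  have h3 := (Z d).1.map_sub_lt h2 h1
  rw [sub_sub_sub_cancel_left, ← map_sub, val_const (Z d) (sub_ne_zero.2 hne)] at h3
  exact lt_irrefl _ h3

end Groth.Agent.GenusOneAut17
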