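import Groth.Agent.Lib.FunFldRH25.CurvePic
import Groth.Agent.Lib.GenusOneAut17.Bridge
import Groth.Agent.Lib.Wronskian26.Automorph

/-!
# Points, places and ideals of points
-/

set_option linter.style.haveILetI false
set_option autoImplicit false
set_option maxHeartbeats 800000
set_option backward.isDefEq.respectTransparency.types false

universe u

open CategoryTheory CategoryTheory.Limits AlgebraicGeometry TopologicalSpace

noncomputable section

namespace Groth.Agent.GenusOneAut17

open Curve17 FunFldRH25 FunFld Groth.Agent.FunField Groth.Agent.Wronskian26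

variable {k : Type u} [Field k] {X : Scheme.{u}} [X.Over (Spec (CommRingCat.of k))] [IsIntegral X]
  [IsProper (X ↘ Spec (CommRingCat.of k))] [Smooth (X ↘ Spec (CommRingCat.of k))]
  (e : {n : X // n ≠ genericPoint X} ≃ (letI := funAlg (X ↘ Spec (CommRingCat.of k)); Place k X.functionField))
  (hd : topologicalKrullDim X = 1)

/-- The ideal of a point is the line bundle of minus the point. -/
theorem pointIdeal_iso_lineB {x : X} (hx : IsClosed ({x} : Set X)) (hne : x ≠ genericPoint X) :
    letI := funAlg (X ↘ Spec (CommRingCat.of k))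
    Nonempty (ClSub.idealMod (Scheme.IdealSheafData.vanishingIdeal (⟨{x}, hx⟩ : Closeds X)) ≅
      lineB e hd (Finsupp.single (e ⟨x, hne⟩) (-1))) := by
  classical
  letI := funAlg (X ↘ Spec (CommRingCat.of k))
  haveI := VB17.isNoetherian_of_over (k := k) (X := X)
  have hI := r1_of_invertible hd (normal_curve k hd) (CurveCoh17.isInvertible_pointIdeal hd
    (fun y => haveI := VB17.pid_stalk (k := k) (X := X) hd.le y; inferInstance) hx)
  obtain ⟨a, ha, hoa⟩ := exists_pointIdeal_section (k := k) hd hx
  obtain ⟨-, hD, b, hb, hob⟩ := lineB_spec e hd (Finsupp.single (e ⟨x, hne⟩) (-1))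
  refine hI.nonempty_iso hD ha hb fun y hy => ?_
  rw [hoa y hy, hob y (ne_of_coheight_one hy)]
  by_cases h : y = x
  · subst h
    rw [if_pos rfl, Finsupp.single_eq_same]
  · rw [if_neg h, Finsupp.single_eq_of_ne fun c => h (congrArg Subtype.val (e.injective c))]

variable (ho : ∀ n (z : X.functionField),
  (letI := funAlg (X ↘ Spec (CommRingCat.of k)); (e n).ord z) = CycAlg.ordFrac (X.presheaf.stalk n.1) X.functionField z)

include hd ho in
/-- An automorphism moves the place of a point by the map of function fields. -/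
theorem place_hom (i : X ≅ X) (eg : i.hom (genericPoint X) = genericPoint X)
    (θ : letI := funAlg (X ↘ Spec (CommRingCat.of k)); X.functionField ≃ₐ[k] X.functionField)
    (hθ : ∀ z, Curve17.genMap i.hom eg z = (letI := funAlg (X ↘ Spec (CommRingCat.of k)); θ z))
    (R : {n : X // n ≠ genericPoint X}) (hiR : i.hom R.1 ≠ genericPoint X) :
    letI := funAlg (X ↘ Spec (CommRingCat.of k))
    e ⟨i.hom R.1, hiR⟩ = comapPlace θ (e R) := by
  letI := funAlg (X ↘ Spec (CommRingCat.of k))
  haveI := VB17.isNoetherian_of_over (k := k) (X := X)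
  refine eq_of_O_le fun z hz => ?_
  rcases eq_or_ne z 0 with rfl | hz0
  · exact zero_mem _
  have h1 : 0 ≤ (e ⟨i.hom R.1, hiR⟩).ord z := (val_le_one_iff _ hz0).1 hz
  rw [← ord_eq_place e hd ho hiR] at h1
  haveI : IsIntegrallyClosed (X.presheaf.stalk (i.hom R.1)) := (normal_curve k hd (i.hom R.1)).2
  haveI := Curve17.isDiscreteValuationRing_stalk hd (Curve17.isClosed_singleton hd.le hiR)
  obtain ⟨r, hr⟩ := CDivLib.inStalk_of_ord_nonneg (x := i.hom R.1) hz0 h1
  have h2 : θ z = algebraMap (X.presheaf.stalk R.1) X.functionField (i.hom.stalkMap R.1 r) := by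
    rw [← hθ, ← hr]
    show Curve17.genMap i.hom eg (X.presheaf.stalkSpecializes _ r) = X.presheaf.stalkSpecializes _ (i.hom.stalkMap R.1 r)
    rw [Curve17.genMap, CommRingCat.comp_apply, ← CommRingCat.comp_apply, ← CommRingCat.comp_apply,
      ← CommRingCat.comp_apply, TopCat.Presheaf.stalkSpecializes_comp_assoc]
    exact ConcreteCategory.congr_hom
      (Scheme.Hom.stalkSpecializes_stalkMap i.hom (genericPoint X) R.1 (genericPoint_specializes R.1)) r
  show (comapPlace θ (e R)).1 z ≤ 1
  rw [comapPlace_apply, val_le_one_iff _ ((map_ne_zero θ).2 hz0), h2, ← ord_eq_place e hd ho R.2]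
  exact CDivLib.one_le_ordHom_of_inStalk (coheight_one_of_ne hd R.2)
    (by rw [← h2]; exact (map_ne_zero θ).2 hz0) ⟨_, rfl⟩

end Groth.Agent.GenusOneAut17
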