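import Groth.Agent.Lib.GenusOneAut17.Fibres
import Groth.Agent.Lib.Wronskian26.WDiv

/-!
# A degree two function on a genus one function field has a branch point
-/

set_option autoImplicit false
set_option linter.style.haveILetI false
set_option maxHeartbeats 800000

namespace Groth.Agent.GenusOneAut17

open FunFld WithZero Polynomial IntermediateField Groth.Agent.FunField Groth.Agent.Wronskian26
open scoped Multiplicative

universe u

variable {k K : Type*} [Field k] [IsAlgClosed k] [Field K] [Algebra k K]

/-- In characteristic `≠ 2` a function of degree two has the same field as one with a double pole. -/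
theorem exists_double_pole (hK : IsFunctionField k K) (hg : genus k K = 1) (hchar : (2 : k) ≠ 0) {x : K}
    (hxt : Transcendental k x) (hdeg : Module.finrank k⟮x⟯ K = 2) :
    ∃ (R : Place k K) (y : K), poleDiv (k := k) y = Finsupp.single R 2 ∧ k⟮y⟯ = k⟮x⟯ := by
  classical
  have h := ff hK
  have hx0 : x ≠ 0 := fun e => hxt (by rw [e]; exact isAlgebraic_zero)
  by_cases hP : ∃ P : Place k K, P.ord x ≤ -2
  · obtain ⟨P, hP⟩ := hP
    refine ⟨P, x, ?_, rfl⟩
    refine (eq_of_le_of_deg h (fun S => ?_) (le_of_eq ?_)).symm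
    · rw [poleDiv_apply h]
      rcases eq_or_ne S P with rfl | hS
      · rw [Finsupp.single_eq_same]; omega
      · rw [Finsupp.single_eq_of_ne hS]; omega
    · rw [deg_single, deg_eq_one h P, deg_poleDiv h hxt, hdeg]; norm_num
  push Not at hP
  by_cases hR : ∃ (R : Place k K) (a : k), 2 ≤ R.ord (x - algebraMap k K a)
  · obtain ⟨R, a, ha⟩ := hR
    have hy : Transcendental k (x - algebraMap k K a)⁻¹ := by
      intro hal
      have h1 := (IsAlgebraic.inv hal).add (isAlgebraic_algebraMap a)
      rw [inv_inv, sub_add_cancel] at h1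
      exact hxt h1
    have heq : (k⟮(x - algebraMap k K a)⁻¹⟯ : IntermediateField k K) = k⟮x⟯ := by
      apply le_antisymm <;> rw [adjoin_simple_le_iff]
      · exact inv_mem (sub_mem (mem_adjoin_simple_self k x) (IntermediateField.algebraMap_mem _ a))
      · have h1 := add_mem (inv_mem (mem_adjoin_simple_self k (x - algebraMap k K a)⁻¹))
          (IntermediateField.algebraMap_mem k⟮(x - algebraMap k K a)⁻¹⟯ a)
        rwa [inv_inv, sub_add_cancel] at h1
    refine ⟨R, (x - algebraMap k K a)⁻¹, ?_, heq⟩
    refine (eq_of_le_of_deg h (fun S => ?_) (le_of_eq ?_)).symm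
    · rw [poleDiv_apply h, ord_inv, neg_neg]
      rcases eq_or_ne S R with rfl | hS
      · rw [Finsupp.single_eq_same]; omega
      · rw [Finsupp.single_eq_of_ne hS]; omega
    · rw [deg_single, deg_eq_one h R, deg_poleDiv h hy, heq, hdeg]; norm_num
  exfalso
  push Not at hR
  haveI : FiniteDimensional k⟮x⟯ K := Module.finite_of_finrank_pos (by omega)
  haveI : Algebra.IsQuadraticExtension k⟮x⟯ K := ⟨hdeg⟩
  haveI : Algebra.IsSeparable k⟮x⟯ K := by
    by_contra hns
    rcases (IntermediateField.isSimpleOrder_of_finrank_prime k⟮x⟯ K (hdeg ▸ Nat.prime_two)).eq_bot_or_eq_top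
      (separableClosure k⟮x⟯ K) with hb | ht
    · haveI := (separableClosure.eq_bot_iff.1 hb : IsPurelyInseparable k⟮x⟯ K)
      obtain ⟨q, hq⟩ := ExpChar.exists k⟮x⟯
      obtain ⟨n, hn⟩ := IsPurelyInseparable.finrank_eq_pow k⟮x⟯ K q
      rw [hdeg] at hn
      cases hq with
      | zero => simp at hn
      | prime hp =>
        obtain rfl : q = 2 := (Nat.prime_dvd_prime_iff_eq hp Nat.prime_two).1 (by
          rcases n with _ | n
          · simp at hn
          · exact ⟨q ^ n, by rw [hn, pow_succ']⟩)
        haveI := ‹CharP k⟮x⟯ 2›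
        refine hchar ((algebraMap k k⟮x⟯).injective ?_)
        rw [map_ofNat, map_zero]
        exact CharP.cast_eq_zero (R := k⟮x⟯) 2
    · exact hns ((separableClosure.eq_top_iff _ K).1 ht)
  have hsep : Sep k x := sep_of_isSeparable x
  obtain ⟨C, hCc, hC⟩ := exists_canonical_dOrd hK hsep
  have hd := (isCanonical_deg hK hCc).2
  rw [hg] at hd
  have hC' : ∀ P, C P = -2 * poleDiv (k := k) x P := fun P => by
    rw [hC, poleDiv_apply h]
    rcases le_or_gt 0 (P.ord x) with hPx | hPx
    · rw [max_eq_right (by omega)]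
      obtain ⟨a, ha⟩ := exists_const_near h P ((val_le_one_iff P hx0).2 hPx)
      have hy0 : x - algebraMap k K a ≠ 0 := fun e => hxt (by rw [sub_eq_zero.1 e]; exact isAlgebraic_algebraMap a)
      have h1 := val_eq_exp_neg_ord P hy0
      have h2 := hR P a
      have h3 : 0 < P.ord (x - algebraMap k K a) := by
        rw [h1, ← exp_zero, exp_lt_exp] at ha
        omega
      have ht : P.1 (x - algebraMap k K a) = exp (-1 : ℤ) := by rw [h1]; congr 1; omega
      rw [dOrd_eq h P ht]
      have h5 : der h (sep_uniformizer h P ht) ((x - algebraMap k K a) + algebraMap k K a) = 1 := by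
        rw [der_add, der_self, der_const, add_zero]
      rw [sub_add_cancel] at h5
      rw [h5, ord_one, mul_zero]
    · have hPo : P.ord x = -1 := by have := hP P; omega
      rw [max_eq_left (by omega), hPo]
      have ht : P.1 x⁻¹ = exp (-1 : ℤ) := by
        rw [map_inv₀, val_eq_exp_neg_ord P hx0, hPo, ← exp_neg]
        norm_num
      rw [dOrd_eq h P ht]
      have h0 : x * 1 + x⁻¹ * der h (sep_uniformizer h P ht) x = 0 := by
        have h1 := der_mul h (sep_uniformizer h P ht) x x⁻¹
        rw [mul_inv_cancel₀ hx0, der_self, ← map_one (algebraMap k K), der_const, map_one] at h1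
        exact h1.symm
      have h4 : der h (sep_uniformizer h P ht) x = -(x ^ 2) := by
        linear_combination x * h0 - der h (sep_uniformizer h P ht) x * mul_inv_cancel₀ hx0
      rw [h4, Place.ord, Valuation.map_neg]
      show P.ord (x ^ 2) = _
      rw [ord_pow, hPo]
      norm_num
  have hC'' : C = -((2 : ℕ) • poleDiv (k := k) x) := Finsupp.ext fun P => by
    rw [hC', Finsupp.neg_apply, Finsupp.smul_apply, nsmul_eq_mul]; push_cast; ring
  rw [hC'', deg_neg, deg_smul, deg_poleDiv h hxt, hdeg] at hd
  norm_num at hd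

end Groth.Agent.GenusOneAut17
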